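import Mathlib

/-!
Lifting control of strong fusion from a normal subgroup `N` to `N P`.
-/

set_option autoImplicit false
set_option linter.style.haveILetI false
set_option linter.unusedSectionVars false

namespace CfsgLib.FusionLift

open Subgroup

variable {G : Type*} [Group G] [Finite G] {p : ℕ} [Fact p.Prime]

/-- conjugate subgroup -/
abbrev cj (x : G) (A : Subgroup G) : Subgroup G := A.map (MulAut.conj x).toMonoidHom

theorem mem_cj {x : G} {A : Subgroup G} {a : G} : a ∈ cj x A ↔ x⁻¹ * a * x ∈ A := by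
  rw [mem_map_equiv, MulAut.conj_symm_apply]

theorem conj_mem_cj {x a : G} {A : Subgroup G} (ha : a ∈ A) : x * a * x⁻¹ ∈ cj x A :=
  ⟨a, ha, rfl⟩

theorem cj_le {x : G} {A B : Subgroup G} (h : ∀ a ∈ A, x * a * x⁻¹ ∈ B) : cj x A ≤ B := by
  rintro _ ⟨a, ha, rfl⟩
  exact h a ha

theorem card_cj (x : G) (A : Subgroup G) : Nat.card (cj x A) = Nat.card A :=
  card_map_of_injective (MulAut.conj x).injective

theorem conj_mem_of_le_normalizer {H K : Subgroup G} (h : H ≤ normalizer (K : Set G)) {x : G}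
    (hx : x ∈ H) {a : G} (ha : a ∈ K) : x * a * x⁻¹ ∈ K :=
  (mem_normalizer_iff.1 (h hx) a).1 ha

theorem conj_mem_of_le_normalizer' {H K : Subgroup G} (h : H ≤ normalizer (K : Set G)) {x : G}
    (hx : x ∈ H) {a : G} (ha : a ∈ K) : x⁻¹ * a * x ∈ K := by
  have := conj_mem_of_le_normalizer h (inv_mem hx) ha
  rwa [inv_inv] at this

theorem mem_centralizer_conj {A : Subgroup G} {x e : G}
    (he : e ∈ centralizer (cj x A : Set G)) : x⁻¹ * e * x ∈ centralizer (A : Set G) := by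
  refine mem_centralizer_iff.2 fun a ha => ?_
  have h1 : x * a * x⁻¹ * e = e * (x * a * x⁻¹) :=
    mem_centralizer_iff.1 he _ (conj_mem_cj ha)
  calc a * (x⁻¹ * e * x) = x⁻¹ * (x * a * x⁻¹ * e) * x := by group
    _ = x⁻¹ * (e * (x * a * x⁻¹)) * x := by rw [h1]
    _ = x⁻¹ * e * x * a := by group

/-- A p-subgroup of maximal order absorbs every p-subgroup up to conjugation. -/
theorem conj_into {K P S : Subgroup G} (hPK : P ≤ K) (hP : IsPGroup p P)
    (hmax : ∀ T : Subgroup G, P ≤ T → T ≤ K → IsPGroup p T → Nat.card T ≤ Nat.card P)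
    (hSK : S ≤ K) (hS : IsPGroup p S) : ∃ x ∈ K, ∀ s ∈ S, x * s * x⁻¹ ∈ P := by
  let Ps : Sylow p K :=
    { toSubgroup := P.subgroupOf K
      isPGroup' := hP.comap_subtype
      is_maximal' := fun {Q} hQ hle => by
        have h1 : P ≤ Q.map K.subtype := fun x hx => ⟨⟨x, hPK hx⟩, hle hx, rfl⟩
        have h2 := eq_of_le_of_card_ge h1 (hmax _ h1 (map_subtype_le _) (hQ.map _))
        rw [h2, subgroupOf, comap_map_eq_self_of_injective K.subtype_injective] }
  obtain ⟨R, hR⟩ := (hS.comap_subtype : IsPGroup p (S.subgroupOf K)).exists_le_sylow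
  obtain ⟨x, hx⟩ := MulAction.exists_smul_eq K R Ps
  refine ⟨x, x.2, fun s hs => ?_⟩
  have h1 : MulAut.conj x (⟨s, hSK hs⟩ : K) ∈ ((x • R : Sylow p K) : Subgroup K) := by
    rw [Sylow.coe_subgroup_smul]
    exact smul_mem_pointwise_smul _ _ _ (hR hs)
  rw [hx] at h1
  exact h1

theorem relIndex_sup_of_le_normalizer {A D : Subgroup G} (h : A ≤ normalizer (D : Set G)) :
    D.relIndex (A ⊔ D) = D.relIndex A := by
  rw [← relIndex_subgroupOf (sup_le h le_normalizer) (H := D), subgroupOf_sup h le_normalizer,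
    relIndex_sup_right, relIndex_subgroupOf h]

theorem card_eq_relIndex_mul (D S : Subgroup G) :
    Nat.card S = Nat.card (D ⊓ S : Subgroup G) * D.relIndex S := by
  rw [← relIndex_bot_left, ← relIndex_bot_left, ← inf_relIndex_right D S,
    relIndex_mul_relIndex _ _ _ bot_le inf_le_right]

theorem mul_pow_eq {N : Subgroup G} {q n : G} (hq : q ∈ normalizer (N : Set G)) (hn : n ∈ N)
    (k : ℕ) : ∃ m ∈ N, (q * n) ^ k = q ^ k * m := by
  induction k with
  | zero => exact ⟨1, one_mem _, by simp⟩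
  | succ k ih =>
    obtain ⟨m, hm, e⟩ := ih
    refine ⟨q⁻¹ * m * q * n, mul_mem (conj_mem_of_le_normalizer' le_rfl hq hm) hn, ?_⟩
    rw [pow_succ, e, pow_succ q]
    group

/-- `P` is Sylow in `N P` and `L` controls strong `N`-fusion in `P ∩ N`. -/
structure Setting (p : ℕ) (N P L : Subgroup G) : Prop where
  hPN : P ≤ normalizer (N : Set G)
  hLN : L ≤ N
  hPL : P ≤ normalizer (L : Set G)
  hP0 : P ⊓ N ≤ L
  hp : IsPGroup p P
  hmax : ∀ S : Subgroup G, P ≤ S → S ≤ N ⊔ P → IsPGroup p S → Nat.card S ≤ Nat.card P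
  ctrl : ∀ A : Subgroup G, A ≤ P ⊓ N → ∀ n ∈ N, (∀ a ∈ A, n * a * n⁻¹ ∈ P ⊓ N) →
    ∃ l ∈ L, ∃ c ∈ N ⊓ centralizer (A : Set G), n = l * c

variable {N P L : Subgroup G}

theorem Setting.exists_mul (hs : Setting p N P L) {g : G} (hg : g ∈ N ⊔ P) :
    ∃ q ∈ P, ∃ n ∈ N, g = q * n := by
  rw [sup_comm, ← SetLike.mem_coe, coe_mul_of_left_le_normalizer_right P N hs.hPN] at hg
  obtain ⟨q, hq, n, hn, rfl⟩ := Set.mem_mul.1 hg
  exact ⟨q, hq, n, hn, rfl⟩

theorem Setting.le_normalizer_N (hs : Setting p N P L) : N ⊔ P ≤ normalizer (N : Set G) :=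
  sup_le le_normalizer hs.hPN

theorem Setting.H_le_normalizer_L (hs : Setting p N P L) : L ⊔ P ≤ normalizer (L : Set G) :=
  sup_le le_normalizer hs.hPL

theorem Setting.H_le (hs : Setting p N P L) : L ⊔ P ≤ N ⊔ P := sup_le_sup_right hs.hLN _

theorem Setting.mem_L (hs : Setting p N P L) {h : G} (hh : h ∈ L ⊔ P) (hN : h ∈ N) : h ∈ L := by
  rw [sup_comm, ← SetLike.mem_coe, coe_mul_of_left_le_normalizer_right P L hs.hPL] at hh
  obtain ⟨q, hq, l, hl, rfl⟩ := Set.mem_mul.1 hh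
  exact mul_mem (hs.hP0 ⟨hq, (mul_mem_cancel_right (hs.hLN hl)).1 hN⟩) hl

/-- The inductive statement. -/
def Controls (N P L : Subgroup G) (A : Subgroup G) : Prop :=
  ∀ g ∈ N ⊔ P, (∀ a ∈ A, g * a * g⁻¹ ∈ P) → ∃ h ∈ L ⊔ P, ∃ c ∈ centralizer (A : Set G), g = h * c

/-- The case that `A ∩ N` is central in `N`: the fully normalized argument. -/
theorem controls_central (hs : Setting p N P L) (A : Subgroup G) (hA : A ≤ P)
    (hcen : A ⊓ N ≤ centralizer (N : Set G))
    (ih : ∀ A' : Subgroup G, A' ≤ P → Nat.card A < Nat.card A' → Controls N P L A') :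
    Controls N P L A := by
  classical
  intro g hg hgA
  let 𝒞 := {F : Subgroup G // F ≤ P ∧ ∃ x ∈ N ⊔ P, cj x A = F}
  haveI : Nonempty 𝒞 := ⟨⟨A, hA, 1, one_mem _, by ext; simp [mem_cj]⟩⟩
  obtain ⟨⟨F, hFP, xF, hxF, hFeq⟩, hmax⟩ :=
    Finite.exists_max fun F : 𝒞 => Nat.card (P ⊓ normalizer (F.1 : Set G) : Subgroup G)
  set T := P ⊓ normalizer (F : Set G) with hT
  set X := (N ⊔ P) ⊓ normalizer (F : Set G) with hX
  have hTX : T ≤ X := inf_le_inf_right _ le_sup_right
  have hTp : IsPGroup p T := hs.hp.to_le inf_le_left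
  have hTmax : ∀ S : Subgroup G, T ≤ S → S ≤ X → IsPGroup p S → Nat.card S ≤ Nat.card T := by
    intro S hTS hSX hS
    have hSF : IsPGroup p (S ⊔ F : Subgroup G) :=
      hS.to_sup_of_normal_right' (hs.hp.to_le hFP) (hSX.trans inf_le_right)
    obtain ⟨y, hy, hyS⟩ := conj_into le_sup_right hs.hp hs.hmax
      (sup_le (hSX.trans inf_le_left) (hFP.trans le_sup_right)) hSF
    have hyF : cj y F ≤ P := cj_le fun f hf => hyS f (mem_sup_right hf)
    have h1 := hmax ⟨cj y F, hyF, y * xF, mul_mem hy hxF, by rw [← hFeq, cj, cj, cj, map_map]; congr 1; ext; simp [mul_assoc]⟩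
    refine le_trans ?_ h1
    rw [← card_cj y S]
    refine card_le_of_le (cj_le fun s hs' => ⟨hyS s (mem_sup_left hs'), ?_⟩)
    refine mem_normalizer_iff.2 fun f => ?_
    rw [mem_cj, mem_cj, show y⁻¹ * (y * s * y⁻¹ * f * (y * s * y⁻¹)⁻¹) * y = s * (y⁻¹ * f * y) * s⁻¹ by group]
    exact mem_normalizer_iff.1 (hSX hs').2 _
  -- moving a member of the class onto `F`
  have hlift : ∀ A' : Subgroup G, A' ≤ P → (∃ y ∈ N ⊔ P, cj y A' = F) →
      ∃ φ h c : G, φ ∈ N ⊔ P ∧ h ∈ L ⊔ P ∧ c ∈ centralizer (A' : Set G) ∧ φ = h * c ∧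
        cj φ A' = F := by
    rintro A' hA' ⟨y, hy, hyA⟩
    by_cases hPA : A' = P
    · refine ⟨1, 1, 1, one_mem _, one_mem _, one_mem _, (mul_one 1).symm, ?_⟩
      have h1 : cj (1 : G) A' = A' := by ext; simp [mem_cj]
      rw [h1]
      exact (eq_of_le_of_card_ge (hFP.trans hPA.ge) (by rw [← hyA, card_cj])).symm
    · set TA := P ⊓ normalizer (A' : Set G) with hTA
      have hlt : A' < TA := by
        refine lt_of_le_of_ne (le_inf hA' le_normalizer) fun he => ?_
        haveI := hs.hp.isNilpotent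
        have hne : A'.subgroupOf P < ⊤ := lt_top_iff_ne_top.2 fun h =>
          hPA (le_antisymm hA' (subgroupOf_eq_top.1 h))
        have h2 := Group.normalizerCondition_of_isNilpotent _ hne
        obtain ⟨x, hx, hxA⟩ := SetLike.exists_of_lt h2
        refine hxA ?_
        have h3 : (x : G) ∈ TA := by
          refine ⟨x.2, mem_normalizer_iff.2 fun a => ?_⟩
          constructor
          · intro ha
            exact (mem_normalizer_iff.1 hx ⟨a, hA' ha⟩).1 ha
          · intro ha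
            have haP : a ∈ P := by
              have := mul_mem (mul_mem (inv_mem x.2) (hA' ha)) x.2
              simpa [mul_assoc] using this
            exact (mem_normalizer_iff.1 hx ⟨a, haP⟩).2 ha
        rw [← he] at h3
        exact h3
      have hmap : cj y TA ≤ X := cj_le fun t ht => by
        refine Subgroup.mem_inf.2 ⟨mul_mem (mul_mem hy (mem_sup_right ht.1)) (inv_mem hy), ?_⟩
        rw [← hyA]
        refine mem_normalizer_iff.2 fun f => ?_
        rw [mem_cj, mem_cj, show y⁻¹ * (y * t * y⁻¹ * f * (y * t * y⁻¹)⁻¹) * y = t * (y⁻¹ * f * y) * t⁻¹ by group]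
        exact mem_normalizer_iff.1 ht.2 _
      obtain ⟨x, hx, hxT⟩ := conj_into hTX hTp hTmax hmap ((hs.hp.to_le inf_le_left).map _)
      have hcard : Nat.card A < Nat.card TA := by
        have h1 : Nat.card A' = Nat.card A := by
          rw [← card_cj y A', hyA, ← hFeq, card_cj]
        rw [← h1]
        exact lt_of_le_of_ne (card_le_of_le hlt.le) fun he =>
          hlt.ne (eq_of_le_of_card_ge hlt.le he.ge)
      obtain ⟨h, hh, c, hc, e⟩ := ih TA inf_le_left hcard (x * y) (mul_mem hx.1 hy) fun t ht => by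
        have := hxT _ (conj_mem_cj (x := y) ht)
        rw [show x * y * t * (x * y)⁻¹ = x * (y * t * y⁻¹) * x⁻¹ by group]
        exact this.1
      refine ⟨x * y, h, c, mul_mem hx.1 hy, hh, centralizer_le hlt.le hc, e, ?_⟩
      refine eq_of_le_of_card_ge (cj_le fun a ha => ?_) ?_
      · have ha' : y * a * y⁻¹ ∈ F := hyA ▸ conj_mem_cj ha
        rw [show x * y * a * (x * y)⁻¹ = x * (y * a * y⁻¹) * x⁻¹ by group]
        exact (mem_normalizer_iff.1 hx.2 _).1 ha'
      · rw [card_cj, ← hyA, card_cj]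
  set B := cj g A
  have hBP : B ≤ P := cj_le hgA
  obtain ⟨φA, hA', cA, hφA, hhA, hcA, eA, hφAF⟩ := hlift A hA ⟨xF, hxF, hFeq⟩
  obtain ⟨φB, hB', cB, hφB, hhB, hcB, eB, hφBF⟩ := hlift B hBP ⟨xF * g⁻¹, mul_mem hxF (inv_mem hg), by
    rw [← hFeq]; ext; simp [B, mem_cj, mul_assoc]⟩
  have hψ : φB * g * φA⁻¹ ∈ X := by
    refine Subgroup.mem_inf.2 ⟨mul_mem (mul_mem hφB hg) (inv_mem hφA), mem_normalizer_iff.2 fun f => ?_⟩
    conv_lhs => rw [← hφAF, mem_cj]
    conv_rhs => rw [← hφBF, mem_cj, mem_cj]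
    rw [show g⁻¹ * (φB⁻¹ * (φB * g * φA⁻¹ * f * (φB * g * φA⁻¹)⁻¹) * φB) * g = φA⁻¹ * f * φA by group]
  -- `X = T C(F)`
  set C := (centralizer (F : Set G)).subgroupOf X with hC
  haveI hCn : C.Normal := by
    refine ⟨fun e he x => ?_⟩
    rw [hC, mem_subgroupOf, coe_mul, coe_mul, coe_inv]
    refine mem_centralizer_iff.2 fun f hf => ?_
    have h1 : ((x : G)⁻¹ * f * x) * e = e * ((x : G)⁻¹ * f * x) :=
      mem_centralizer_iff.1 (mem_subgroupOf.1 he) _ (conj_mem_of_le_normalizer' inf_le_right x.2 hf)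
    calc f * ((x : G) * e * (x : G)⁻¹) = (x : G) * (((x : G)⁻¹ * f * x) * e) * (x : G)⁻¹ := by group
      _ = (x : G) * (e * ((x : G)⁻¹ * f * x)) * (x : G)⁻¹ := by rw [h1]
      _ = (x : G) * e * (x : G)⁻¹ * f := by group
  have hquot : IsPGroup p (X ⧸ C) := by
    intro z
    obtain ⟨x, rfl⟩ := QuotientGroup.mk_surjective z
    obtain ⟨q, hq, n, hn, hqn⟩ := hs.exists_mul x.2.1
    obtain ⟨a, ha⟩ := hs.hp ⟨q, hq⟩
    obtain ⟨b, hb⟩ := IsPGroup.iff_card.1 (hs.hp.to_le hFP)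
    refine ⟨a + b, ?_⟩
    rw [← QuotientGroup.mk_pow, QuotientGroup.eq_one_iff, pow_add, pow_mul]
    set y := x ^ p ^ a with hy
    have hyN : (y : G) ∈ N := by
      obtain ⟨m, hm, e⟩ := mul_pow_eq (hs.hPN hq) hn (p ^ a)
      rw [hy, coe_pow, hqn, e, show q ^ p ^ a = 1 from congrArg Subtype.val ha, one_mul]
      exact hm
    rw [hC, mem_subgroupOf, coe_pow]
    refine mem_centralizer_iff.2 fun f hf => ?_
    set z := (y : G) * f * (y : G)⁻¹ * f⁻¹ with hz
    have hzF : z ∈ F := mul_mem (conj_mem_of_le_normalizer inf_le_right y.2 hf) (inv_mem hf)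
    have hzN : z ∈ N := by
      rw [hz, show (y : G) * f * (y : G)⁻¹ * f⁻¹ = (y : G) * (f * (y : G)⁻¹ * f⁻¹) by group]
      exact mul_mem hyN (conj_mem_of_le_normalizer hs.hPN (hFP hf) (inv_mem hyN))
    have hzy : (y : G) * z = z * y := by
      rw [← hFeq, mem_cj] at hzF
      have hnor := hs.le_normalizer_N hxF
      have h1 := mem_centralizer_iff.1 (hcen ⟨hzF, conj_mem_of_le_normalizer' le_rfl hnor hzN⟩) _
        (conj_mem_of_le_normalizer' le_rfl hnor hyN)
      calc (y : G) * z = xF * ((xF⁻¹ * y * xF) * (xF⁻¹ * z * xF)) * xF⁻¹ := by group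
        _ = xF * ((xF⁻¹ * z * xF) * (xF⁻¹ * y * xF)) * xF⁻¹ := by rw [h1]
        _ = z * y := by group
    have hpow : ∀ j : ℕ, (y : G) ^ j * f = z ^ j * f * (y : G) ^ j := fun j => by
      induction j with
      | zero => simp
      | succ j ihj =>
        have h1 : (y : G) * z ^ j = z ^ j * y := (Commute.pow_right hzy j).eq
        have h2 : (y : G) * f = z * f * y := by rw [hz]; group
        calc (y : G) ^ (j + 1) * f = (y : G) * ((y : G) ^ j * f) := by rw [pow_succ', mul_assoc]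
          _ = ((y : G) * z ^ j) * f * (y : G) ^ j := by rw [ihj]; group
          _ = z ^ j * ((y : G) * f) * (y : G) ^ j := by rw [h1]; group
          _ = z ^ (j + 1) * f * (y : G) ^ (j + 1) := by rw [h2, pow_succ z, pow_succ']; group
    have hzb : z ^ p ^ b = 1 := by
      rw [← hb]
      exact congrArg Subtype.val (pow_card_eq_one' (x := (⟨z, hzF⟩ : F)))
    rw [hpow, hzb, one_mul]
  obtain ⟨Ts, hTs⟩ : ∃ Ts : Sylow p X, (Ts : Subgroup X) = T.subgroupOf X := by
    refine ⟨{ toSubgroup := T.subgroupOf X, isPGroup' := hTp.comap_subtype, is_maximal' := ?_ }, rfl⟩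
    intro Q hQ hle
    have h1 : T ≤ Q.map X.subtype := fun x hx => ⟨⟨x, hTX hx⟩, hle hx, rfl⟩
    have h2 := eq_of_le_of_card_ge h1 (hTmax _ h1 (map_subtype_le _) (hQ.map _))
    rw [h2, subgroupOf, comap_map_eq_self_of_injective X.subtype_injective]
  have hsurj := QuotientGroup.mk'_surjective C
  have htop : (Ts : Subgroup X).map (QuotientGroup.mk' C) = ⊤ := by
    rw [← Sylow.coe_mapSurjective hsurj]
    exact ((Ts.mapSurjective hsurj).3 (Q := ⊤) (hquot.of_equiv topEquiv.symm) le_top).symm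
  have hmem : (QuotientGroup.mk' C) ⟨φB * g * φA⁻¹, hψ⟩ ∈ (Ts : Subgroup X).map (QuotientGroup.mk' C) :=
    htop ▸ mem_top _
  obtain ⟨t, ht, hte⟩ := hmem
  rw [QuotientGroup.mk'_eq_mk'] at hte
  obtain ⟨e, he, hee⟩ := hte
  replace hee : (t : G) * e = φB * g * φA⁻¹ := congrArg Subtype.val hee
  rw [SetLike.mem_coe, hTs, mem_subgroupOf] at ht
  have heC : (e : G) ∈ centralizer (F : Set G) := mem_subgroupOf.1 he
  have hBF : cj hB' B = F := by
    refine eq_of_le_of_card_ge (cj_le fun a ha => ?_) (by rw [card_cj hB' B, ← hφBF, card_cj φB B])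
    rw [← hφBF, show hB' * a * hB'⁻¹ = φB * a * φB⁻¹ by
      rw [eB, show hB' * cB * a * (hB' * cB)⁻¹ = hB' * (cB * a) * cB⁻¹ * hB'⁻¹ by group,
        ← mem_centralizer_iff.1 hcB a ha]
      group]
    exact conj_mem_cj ha
  have hAF : cj hA' A = F := by
    refine eq_of_le_of_card_ge (cj_le fun a ha => ?_) (by rw [← hφAF, card_cj, card_cj])
    rw [← hφAF, show hA' * a * hA'⁻¹ = φA * a * φA⁻¹ by
      rw [eA, show hA' * cA * a * (hA' * cA)⁻¹ = hA' * (cA * a) * cA⁻¹ * hA'⁻¹ by group,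
        ← mem_centralizer_iff.1 hcA a ha]
      group]
    exact conj_mem_cj ha
  have hB1 : hB' * cB⁻¹ * hB'⁻¹ ∈ centralizer (F : Set G) := by
    rw [← hBF]
    refine mem_centralizer_iff.2 ?_
    rintro _ ⟨a, ha, rfl⟩
    show hB' * a * hB'⁻¹ * _ = _ * (hB' * a * hB'⁻¹)
    calc hB' * a * hB'⁻¹ * (hB' * cB⁻¹ * hB'⁻¹) = hB' * (a * cB⁻¹) * hB'⁻¹ := by group
      _ = hB' * (cB⁻¹ * a) * hB'⁻¹ := by rw [mem_centralizer_iff.1 (inv_mem hcB) a ha]
      _ = _ := by group
  have hB2 : (t : G)⁻¹ * (hB' * cB⁻¹ * hB'⁻¹) * t ∈ centralizer (F : Set G) := by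
    refine mem_centralizer_iff.2 fun f hf => ?_
    have h1 := mem_centralizer_iff.1 hB1 _ (conj_mem_of_le_normalizer inf_le_right ht hf)
    calc f * ((t : G)⁻¹ * (hB' * cB⁻¹ * hB'⁻¹) * t)
        = (t : G)⁻¹ * ((t : G) * f * (t : G)⁻¹ * (hB' * cB⁻¹ * hB'⁻¹)) * t := by group
      _ = (t : G)⁻¹ * ((hB' * cB⁻¹ * hB'⁻¹) * ((t : G) * f * (t : G)⁻¹)) * t := by rw [h1]
      _ = _ := by group
  refine ⟨hB'⁻¹ * t * hA', mul_mem (mul_mem (inv_mem hhB) (mem_sup_right ht.1)) hhA,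
    hA'⁻¹ * ((t : G)⁻¹ * (hB' * cB⁻¹ * hB'⁻¹) * t * e) * hA' * cA, ?_, ?_⟩
  · exact mul_mem (mem_centralizer_conj (hAF.symm ▸ mul_mem hB2 heC)) hcA
  · have h1 : g = φB⁻¹ * ((t : G) * e) * φA := by rw [hee]; group
    rw [h1, eA, eB]
    group

/-- A member whose `C A`-Sylow lies in `P`. -/
theorem controls_good (hs : Setting p N P L) (A : Subgroup G)
    (R : Subgroup G) (hRP : R ≤ P) (hAR : A ≤ R)
    (hRK : R ≤ (N ⊓ centralizer ((A ⊓ N : Subgroup G) : Set G) ⊓ L) ⊔ A)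
    (hRmax : ∀ S : Subgroup G, S ≤ (N ⊓ centralizer ((A ⊓ N : Subgroup G) : Set G) ⊓ L) ⊔ A →
      IsPGroup p S → Nat.card S ≤ Nat.card R)
    (ih : ∀ P' L' : Subgroup G, Setting p (N ⊓ centralizer ((A ⊓ N : Subgroup G) : Set G)) P' L' →
      ∀ A' ≤ P', Controls (N ⊓ centralizer ((A ⊓ N : Subgroup G) : Set G)) P' L' A') :
    Controls N P L A := by
  set D := N ⊓ centralizer ((A ⊓ N : Subgroup G) : Set G) with hD
  set C := D ⊓ L with hC
  have hA : A ≤ P := hAR.trans hRP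
  have hAD : A ≤ normalizer (D : Set G) := by
    intro a ha
    refine Subgroup.le_normalizer_iff.2 ?_ ha
    intro a ha d hd
    refine ⟨conj_mem_of_le_normalizer hs.hPN (hA ha) hd.1, mem_centralizer_iff.2 fun z hz => ?_⟩
    have h1 := mem_centralizer_iff.1 hd.2 (a⁻¹ * z * a)
      (Subgroup.mem_inf.2 ⟨mul_mem (mul_mem (inv_mem ha) hz.1) ha, conj_mem_of_le_normalizer' hs.hPN (hA ha) hz.2⟩)
    calc z * (a * d * a⁻¹) = a * (a⁻¹ * z * a * d) * a⁻¹ := by group
      _ = a * (d * (a⁻¹ * z * a)) * a⁻¹ := by rw [h1]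
      _ = a * d * a⁻¹ * z := by group
  have hAC : A ≤ normalizer (C : Set G) :=
    Subgroup.le_normalizer_iff.2 fun a ha d hd =>
      ⟨conj_mem_of_le_normalizer hAD ha hd.1, conj_mem_of_le_normalizer hs.hPL (hA ha) hd.2⟩
  have hKD : C ⊔ A ≤ normalizer (D : Set G) := sup_le (inf_le_left.trans le_normalizer) hAD
  have hKC : C ⊔ A ≤ normalizer (C : Set G) := sup_le le_normalizer hAC
  have hKH : C ⊔ A ≤ L ⊔ P := sup_le_sup inf_le_right hA
  have hRp : IsPGroup p R := hs.hp.to_le hRP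
  have hD0 : R ⊓ D ≤ C := fun x hx => ⟨hx.2, hs.hP0 ⟨hRP hx.1, hx.2.1⟩⟩
  have hsD : Setting p D R C := by
    refine ⟨hRK.trans hKD, inf_le_left, hRK.trans hKC, hD0, hRp, fun S hRS hSle hS => ?_, ?_⟩
    · have hSA : S ≤ A ⊔ D := hSle.trans (sup_le le_sup_right (hRK.trans
        (sup_le (inf_le_left.trans le_sup_right) le_sup_left)))
      have hT : IsPGroup p ((D ⊓ S) ⊔ (A ⊓ N) : Subgroup G) :=
        (hS.to_le inf_le_right).to_sup_of_normal_right' (hs.hp.to_le (inf_le_left.trans hA))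
          (inf_le_left.trans (inf_le_right.trans (centralizer_le_normalizer _)))
      obtain ⟨x, hx, hxT⟩ := conj_into le_sup_right hs.hp hs.hmax
        ((sup_le (inf_le_left.trans inf_le_left) inf_le_right).trans le_sup_left) hT
      obtain ⟨q, hq, n, hn, rfl⟩ := hs.exists_mul hx
      have hnT : ∀ s ∈ (D ⊓ S) ⊔ (A ⊓ N), n * s * n⁻¹ ∈ P ⊓ N := fun s hs' => by
        refine Subgroup.mem_inf.2 ⟨?_, ?_⟩
        · have := mul_mem (mul_mem (inv_mem hq) (hxT s hs')) hq
          convert this using 1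
          group
        · exact mul_mem (mul_mem hn ((sup_le (inf_le_left.trans inf_le_left) inf_le_right :
            (D ⊓ S) ⊔ (A ⊓ N) ≤ N) hs')) (inv_mem hn)
      obtain ⟨l, hl, c, hc, rfl⟩ := hs.ctrl (A ⊓ N) (inf_le_inf_right _ hA) n hn
        fun a ha => hnT a (mem_sup_right ha)
      have hcD : c ∈ D := hc
      have hS1 : cj c (D ⊓ S) ≤ C := cj_le fun s hs' => by
        refine Subgroup.mem_inf.2 ⟨mul_mem (mul_mem hcD hs'.1) (inv_mem hcD), ?_⟩
        have := mul_mem (mul_mem (inv_mem hl) (hs.hP0 (hnT s (mem_sup_left hs')))) hl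
        convert this using 1
        group
      obtain ⟨y, hy, hyS⟩ := conj_into hRK hRp (fun T _ hT' hTp => hRmax T hT' hTp)
        (hS1.trans le_sup_left) ((hS.to_le inf_le_right).map _)
      have h1 : Nat.card (D ⊓ S : Subgroup G) ≤ Nat.card (D ⊓ R : Subgroup G) := by
        rw [← card_cj c, ← card_cj y]
        exact card_le_of_le (cj_le fun s hs' =>
          ⟨conj_mem_of_le_normalizer hKD hy (hS1 hs').1, hyS s hs'⟩)
      have h2 : D.relIndex S ≤ D.relIndex R := by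
        refine (relIndex_le_of_le_right hSA (index_ne_zero_of_finite)).trans ?_
        rw [relIndex_sup_of_le_normalizer hAD]
        exact relIndex_le_of_le_right hAR (index_ne_zero_of_finite)
      rw [card_eq_relIndex_mul D S, card_eq_relIndex_mul D R]
      exact Nat.mul_le_mul h1 h2
    · intro A' hA' d hd hdA
      obtain ⟨l, hl, c, hc, rfl⟩ := hs.ctrl (A' ⊔ A ⊓ N)
        (sup_le (hA'.trans (inf_le_inf hRP inf_le_left)) (inf_le_inf_right _ hA)) d hd.1 (by
          refine fun a ha => Subgroup.mem_inf.2 ⟨?_, mul_mem (mul_mem hd.1 ((sup_le (hA'.trans (inf_le_right.trans inf_le_left))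
            inf_le_right : A' ⊔ A ⊓ N ≤ N) ha)) (inv_mem hd.1)⟩
          have hle : A' ⊔ A ⊓ N ≤ P.comap (MulAut.conj d).toMonoidHom := by
            refine sup_le (fun a ha => mem_comap.2 ?_) (fun a ha => mem_comap.2 ?_)
            · exact hRP (hdA a ha).1
            · show d * a * d⁻¹ ∈ P
              rw [← mem_centralizer_iff.1 hd.2 a ha, mul_inv_cancel_right]
              exact hA ha.1
          exact mem_comap.1 (hle ha))
      have hcD : c ∈ D := ⟨hc.1, centralizer_le (SetLike.coe_subset_coe.2 le_sup_right) hc.2⟩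
      exact ⟨l, ⟨(mul_mem_cancel_right hcD).1 hd, hl⟩, c, ⟨hcD, centralizer_le (SetLike.coe_subset_coe.2 le_sup_left) hc.2⟩, rfl⟩
  intro g hg hgA
  obtain ⟨q, hq, n, hn, rfl⟩ := hs.exists_mul hg
  have hnA : ∀ a ∈ A, n * a * n⁻¹ ∈ P := fun a ha => by
    have := mul_mem (mul_mem (inv_mem hq) (hgA a ha)) hq
    convert this using 1
    group
  obtain ⟨l, hl, c, hc, rfl⟩ := hs.ctrl (A ⊓ N) (inf_le_inf_right _ hA) n hn fun a ha =>
    Subgroup.mem_inf.2 ⟨hnA a ha.1, mul_mem (mul_mem hn ha.2) (inv_mem hn)⟩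
  have hcD : c ∈ D := hc
  have hcA : cj c A ≤ C ⊔ A := cj_le fun a ha => by
    have hd : c * a * c⁻¹ * a⁻¹ ∈ D := by
      rw [show c * a * c⁻¹ * a⁻¹ = c * (a * c⁻¹ * a⁻¹) by group]
      exact mul_mem hcD (conj_mem_of_le_normalizer hAD ha (inv_mem hcD))
    have hH : c * a * c⁻¹ * a⁻¹ ∈ L ⊔ P := by
      have := mul_mem (mul_mem (mul_mem (inv_mem (mem_sup_left (T := P) hl))
        (mem_sup_right (hnA a ha))) (mem_sup_left hl)) (inv_mem (mem_sup_right (hA ha)))
      convert this using 1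
      group
    have := mul_mem (mem_sup_left (T := A) (show c * a * c⁻¹ * a⁻¹ ∈ C from ⟨hd, hs.mem_L hH hd.1⟩))
      (mem_sup_right ha)
    rwa [inv_mul_cancel_right] at this
  obtain ⟨y, hy, hyA⟩ := conj_into hRK hRp (fun T _ hT' hTp => hRmax T hT' hTp) hcA
    ((hs.hp.to_le hA).map _)
  have hyc : y * c ∈ D ⊔ R := mul_mem ((sup_le (inf_le_left.trans le_sup_left)
    (hAR.trans le_sup_right) : C ⊔ A ≤ D ⊔ R) hy) (mem_sup_left hcD)
  obtain ⟨h, hh, e, he, heq⟩ := ih R C hsD A hAR (y * c) hyc fun a ha => by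
    have := hyA _ (conj_mem_cj (x := c) ha)
    convert this using 1
    group
  refine ⟨q * (l * (y⁻¹ * h)), mul_mem (mem_sup_right hq) (mul_mem (mem_sup_left hl)
    (mul_mem (inv_mem (hKH hy)) ((sup_le_sup inf_le_right hRP) hh))), e, he, ?_⟩
  rw [eq_mul_inv_of_mul_eq heq.symm]
  group

theorem controls_aux (n : ℕ) : ∀ (N P L : Subgroup G), Setting p N P L → Nat.card N = n →
    ∀ A : Subgroup G, A ≤ P → Controls N P L A := by
  induction n using Nat.strong_induction_on with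
  | _ n ihn =>
  intro N P L hs hn A
  induction hk : (Nat.card G - Nat.card A) using Nat.strong_induction_on generalizing A with
  | _ k ihk =>
  intro hA
  by_cases hcen : A ⊓ N ≤ centralizer (N : Set G)
  · exact controls_central hs A hA hcen fun A' hA' hlt =>
      ihk _ (by have := card_le_card_group A'; omega) A' rfl hA'
  set D := N ⊓ centralizer ((A ⊓ N : Subgroup G) : Set G) with hD
  set C := D ⊓ L with hC
  obtain ⟨R0, hR0⟩ := ((hs.hp.to_le hA).comap_subtype :
    IsPGroup p (A.subgroupOf (C ⊔ A))).exists_le_sylow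
  set R := (R0 : Subgroup ↥(C ⊔ A)).map (C ⊔ A).subtype with hR
  have hRK : R ≤ C ⊔ A := map_subtype_le _
  have hAR : A ≤ R := fun a ha => ⟨⟨a, mem_sup_right ha⟩, hR0 ha, rfl⟩
  have hRmax : ∀ S : Subgroup G, S ≤ C ⊔ A → IsPGroup p S → Nat.card S ≤ Nat.card R := fun S hS hSp => by
    obtain ⟨R1, hR1⟩ := (hSp.comap_subtype : IsPGroup p (S.subgroupOf (C ⊔ A))).exists_le_sylow
    rw [hR, card_map_of_injective (C ⊔ A).subtype_injective, ← Nat.card_congr (subgroupOfEquivOfLe hS).toEquiv]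
    refine (card_le_of_le hR1).trans ?_
    rw [R1.card_eq_multiplicity, R0.card_eq_multiplicity]
  obtain ⟨x, hx, hxR⟩ := conj_into le_sup_right hs.hp
    (fun T h1 h2 h3 => hs.hmax T h1 (h2.trans hs.H_le) h3)
    (hRK.trans (sup_le_sup inf_le_right hA)) (R0.2.map _)
  have hA' : cj x A ≤ P := cj_le fun a ha => hxR a (hAR ha)
  have hxN : x ∈ normalizer (N : Set G) := hs.le_normalizer_N (hs.H_le hx)
  have hAN : cj x (A ⊓ N) = cj x A ⊓ N := by
    rw [cj, map_inf_eq _ _ _ (MulAut.conj x).injective]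
    congr 1
    ext u
    rw [mem_map_equiv, MulAut.conj_symm_apply]
    exact ⟨fun h => by simpa [mul_assoc] using conj_mem_of_le_normalizer le_rfl hxN h,
      fun h => conj_mem_of_le_normalizer' le_rfl hxN h⟩
  have hmemD : ∀ d : G, d ∈ N ⊓ centralizer ((cj x A ⊓ N : Subgroup G) : Set G) ↔ x⁻¹ * d * x ∈ D := by
    intro d
    rw [← hAN, hD, Subgroup.mem_inf, Subgroup.mem_inf]
    refine and_congr ⟨fun h => conj_mem_of_le_normalizer' le_rfl hxN h,
      fun h => by simpa [mul_assoc] using conj_mem_of_le_normalizer le_rfl hxN h⟩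
      ⟨fun h => mem_centralizer_conj h, fun h => mem_centralizer_iff.2 ?_⟩
    rintro _ ⟨a, ha, rfl⟩
    have h1 := mem_centralizer_iff.1 h a ha
    show x * a * x⁻¹ * d = d * (x * a * x⁻¹)
    calc x * a * x⁻¹ * d = x * (a * (x⁻¹ * d * x)) * x⁻¹ := by group
      _ = x * ((x⁻¹ * d * x) * a) * x⁻¹ := by rw [h1]
      _ = _ := by group
  have hmemC : ∀ d : G, d ∈ N ⊓ centralizer ((cj x A ⊓ N : Subgroup G) : Set G) ⊓ L ↔ x⁻¹ * d * x ∈ C := by
    intro d
    rw [Subgroup.mem_inf, hC, Subgroup.mem_inf]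
    refine and_congr (hmemD d) ⟨fun h => conj_mem_of_le_normalizer' hs.H_le_normalizer_L hx h,
      fun h => by simpa [mul_assoc] using conj_mem_of_le_normalizer hs.H_le_normalizer_L hx h⟩
  have hCA : cj x (C ⊔ A) = (N ⊓ centralizer ((cj x A ⊓ N : Subgroup G) : Set G) ⊓ L) ⊔ cj x A := by
    rw [cj, Subgroup.map_sup]
    congr 1
    ext d
    exact mem_cj.trans (hmemC d).symm
  have hDeq : N ⊓ centralizer ((cj x A ⊓ N : Subgroup G) : Set G) = cj x D := by
    ext d
    exact (hmemD d).trans mem_cj.symm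
  have hlt : Nat.card D < n := by
    rw [← hn]
    refine lt_of_le_of_ne (card_le_of_le inf_le_left) fun he => hcen ?_
    have h1 : D = N := eq_of_le_of_card_ge inf_le_left he.ge
    exact le_centralizer_iff.2 (h1.ge.trans inf_le_right)
  have hgood : Controls N P L (cj x A) := by
    refine controls_good hs (cj x A) (cj x R) (cj_le hxR) (map_mono hAR) ?_ ?_ ?_
    · rw [← hCA]
      exact map_mono hRK
    · intro S hS hSp
      rw [← hCA] at hS
      rw [card_cj x R, ← card_cj x⁻¹ S]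
      refine hRmax _ (cj_le fun s hs' => ?_) (hSp.map _)
      have := mem_cj.1 (hS hs')
      simpa using this
    · intro P' L' hs' A' hA''
      exact ihn (Nat.card D) hlt _ P' L' hs' (by rw [hDeq, card_cj]) A' hA''
  intro g hg hgA
  obtain ⟨h, hh, c, hc, heq⟩ := hgood (g * x⁻¹) (mul_mem hg (inv_mem (hs.H_le hx))) (by
    intro a ha
    have := hgA _ (mem_cj.1 ha)
    convert this using 1
    group)
  refine ⟨h * x, mul_mem hh hx, x⁻¹ * c * x, mem_centralizer_conj hc, ?_⟩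
  rw [mul_inv_eq_iff_eq_mul.1 heq]
  group

theorem controls {N P L : Subgroup G} (hs : Setting p N P L) {A : Subgroup G} (hA : A ≤ P) :
    Controls N P L A :=
  controls_aux _ N P L hs rfl A hA

end CfsgLib.FusionLift
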